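import Mathlib.Algebra.Homology.DerivedCategory.KInjective
import Mathlib.Algebra.Homology.HomotopyCategory.HomComplexSingle
import Mathlib.Algebra.Homology.HomotopyCategory.HomComplexCohomology

/-!
# Cohomology classes of the Hom complex and morphisms in the derived category

For a K-injective complex `L`, `CohomologyClass K L n` identifies with `Q.obj K ⟶ (Q.obj L)⟦n⟧`.
-/

set_option autoImplicit false
universe w v u

namespace Groth.Agent.Lib.Helper25.LocColim

open CategoryTheory CategoryTheory.Limits CochainComplex CochainComplex.HomComplex DerivedCategory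

variable {C : Type u} [Category.{v} C] [Abelian C] [HasDerivedCategory.{w} C]

/-- the morphism in the derived category attached to a cocycle of the Hom complex -/
noncomputable def kappaCoc (K L : CochainComplex C ℤ) (n : ℤ) :
    Cocycle K L n →+ (Q.obj K ⟶ (Q.obj L)⟦n⟧) where
  toFun x := Q.map (Cocycle.equivHomShift.symm x) ≫ (Q.commShiftIso n).hom.app L
  map_zero' := by simp
  map_add' x y := by simp [Preadditive.add_comp]

theorem kappaCoc_eq_zero_of_mem {K L : CochainComplex C ℤ} {n : ℤ} (x : Cocycle K L n)
    (hx : x ∈ coboundaries K L n) : kappaCoc K L n x = 0 := by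
  have h1 : (HomotopyCategory.quotient C _).map (Cocycle.equivHomShift.symm x) = 0 := by
    rw [← CohomologyClass.toHom_mk, CohomologyClass.toHom_mk_eq_zero_iff]
    exact hx
  have h2 : Q.map (Cocycle.equivHomShift.symm x) = 0 := by
    change Qh.map ((HomotopyCategory.quotient C _).map (Cocycle.equivHomShift.symm x)) = 0
    rw [h1, Functor.map_zero]
  change Q.map (Cocycle.equivHomShift.symm x) ≫ _ = 0
  rw [h2, zero_comp]

/-- the morphism in the derived category attached to a cohomology class of the Hom complex -/
noncomputable def kappa (K L : CochainComplex C ℤ) (n : ℤ) :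
    CohomologyClass K L n →+ (Q.obj K ⟶ (Q.obj L)⟦n⟧) :=
  CohomologyClass.descAddMonoidHom (kappaCoc K L n) (fun x hx => kappaCoc_eq_zero_of_mem x hx)

theorem kappa_mk {K L : CochainComplex C ℤ} {n : ℤ} (x : Cocycle K L n) :
    kappa K L n (CohomologyClass.mk x) =
      Q.map (Cocycle.equivHomShift.symm x) ≫ (Q.commShiftIso n).hom.app L := rfl

theorem kappa_mk_precomp {K K' L : CochainComplex C ℤ} {n : ℤ} (x : Cocycle K L n) (g : K' ⟶ K) :
    kappa K' L n (CohomologyClass.mk (x.precomp g)) =
      Q.map g ≫ kappa K L n (CohomologyClass.mk x) := by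
  rw [kappa_mk, kappa_mk, Cocycle.equivHomShift_symm_precomp, Functor.map_comp, Category.assoc]

theorem kappa_mk_eq_zero_iff {K L : CochainComplex C ℤ} [L.IsKInjective] {n : ℤ}
    (x : Cocycle K L n) :
    kappa K L n (CohomologyClass.mk x) = 0 ↔ x ∈ coboundaries K L n := by
  constructor
  · intro h
    rw [kappa_mk] at h
    have h2 : Q.map (Cocycle.equivHomShift.symm x) = 0 := by
      rw [← cancel_mono ((Q.commShiftIso n).hom.app L), zero_comp]
      exact h
    have h1 : (HomotopyCategory.quotient C _).map (Cocycle.equivHomShift.symm x) = 0 := by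
      apply (CochainComplex.IsKInjective.Qh_map_bijective
        ((HomotopyCategory.quotient C _).obj K) (L⟦n⟧)).injective
      rw [Functor.map_zero]
      exact h2
    rw [← CohomologyClass.toHom_mk, CohomologyClass.toHom_mk_eq_zero_iff] at h1
    exact h1
  · intro h
    exact kappaCoc_eq_zero_of_mem x h

theorem kappa_surjective (K L : CochainComplex C ℤ) [L.IsKInjective] (n : ℤ)
    (φ : Q.obj K ⟶ (Q.obj L)⟦n⟧) : ∃ x : Cocycle K L n, kappa K L n (CohomologyClass.mk x) = φ := by
  obtain ⟨ψ, hψ⟩ := (CochainComplex.IsKInjective.Qh_map_bijective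
    ((HomotopyCategory.quotient C _).obj K) (L⟦n⟧)).surjective
    (φ ≫ (Q.commShiftIso n).inv.app L)
  obtain ⟨f, rfl⟩ := (HomotopyCategory.quotient _ _).map_surjective ψ
  refine ⟨Cocycle.equivHomShift f, ?_⟩
  rw [kappa_mk, AddEquiv.symm_apply_apply]
  have : Q.map f = φ ≫ (Q.commShiftIso n).inv.app L := hψ
  rw [this, Category.assoc, Iso.inv_hom_id_app]
  exact Category.comp_id _

end Groth.Agent.Lib.Helper25.LocColim
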