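import Groth.Agent.Lib.Helper25.LocColim.Kappa
import Mathlib.Algebra.Homology.DerivedCategory.Linear
import Mathlib.Algebra.Category.ModuleCat.Abelian

/-!
# Morphisms `M[0] ⟶ L⟦q⟧` in `D(A)` for a K-injective complex `L`

They are represented by the module maps `f : M ⟶ L^q` with `f ≫ d = 0`, modulo those of the
form `g ≫ d`.
-/

set_option autoImplicit false
universe u

namespace Groth.Agent.Lib.Helper25.LocColim

open CategoryTheory CategoryTheory.Limits CochainComplex CochainComplex.HomComplex DerivedCategory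

attribute [local instance] HasDerivedCategory.standard

variable {A : Type u} [CommRing A]

/-- the module `M` as a complex in degree `0` -/
noncomputable abbrev sgl (M : ModuleCat.{u} A) : CochainComplex (ModuleCat.{u} A) ℤ :=
  (CochainComplex.singleFunctor (ModuleCat.{u} A) 0).obj M

variable (L : CochainComplex (ModuleCat.{u} A) ℤ) (q : ℤ)

/-- the cocycle attached to `f : M ⟶ L^q` with `f ≫ d = 0` -/
noncomputable def coc {M : ModuleCat.{u} A} (f : M ⟶ L.X q) (hf : f ≫ L.d q (q + 1) = 0) :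
    Cocycle (sgl M) L q :=
  Cocycle.fromSingleMk f (zero_add q) (q + 1) rfl hf

/-- the morphism `M[0] ⟶ L⟦q⟧` in `D(A)` attached to `f : M ⟶ L^q` with `f ≫ d = 0` -/
noncomputable def phiOf {M : ModuleCat.{u} A} (f : M ⟶ L.X q) (hf : f ≫ L.d q (q + 1) = 0) :
    Q.obj (sgl M) ⟶ (Q.obj L)⟦q⟧ :=
  kappa (sgl M) L q (CohomologyClass.mk (coc L q f hf))

theorem exists_rep [L.IsKInjective] {M : ModuleCat.{u} A} (φ : Q.obj (sgl M) ⟶ (Q.obj L)⟦q⟧) :
    ∃ (f : M ⟶ L.X q) (hf : f ≫ L.d q (q + 1) = 0), phiOf L q f hf = φ := by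
  obtain ⟨x, rfl⟩ := kappa_surjective (sgl M) L q φ
  obtain ⟨f, hf, rfl⟩ := Cocycle.fromSingleMk_surjective x q (zero_add q) (q + 1) rfl
  exact ⟨f, hf, rfl⟩

theorem phiOf_eq_zero_iff [L.IsKInjective] {M : ModuleCat.{u} A} (f : M ⟶ L.X q)
    (hf : f ≫ L.d q (q + 1) = 0) :
    phiOf L q f hf = 0 ↔ ∃ g : M ⟶ L.X (q - 1), g ≫ L.d (q - 1) q = f := by
  unfold phiOf
  rw [kappa_mk_eq_zero_iff]
  exact Cocycle.fromSingleMk_mem_coboundaries_iff f (zero_add q) (q + 1) rfl hf (q - 1) (by omega)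

theorem phiOf_add {M : ModuleCat.{u} A} (f f' : M ⟶ L.X q) (hf : f ≫ L.d q (q + 1) = 0)
    (hf' : f' ≫ L.d q (q + 1) = 0) :
    phiOf L q (f + f') (by rw [Preadditive.add_comp, hf, hf', add_zero]) =
      phiOf L q f hf + phiOf L q f' hf' := by
  unfold phiOf coc
  rw [Cocycle.fromSingleMk_add f f' (zero_add q) (q + 1) rfl hf hf', CohomologyClass.mk_add,
    map_add]

theorem phiOf_sub {M : ModuleCat.{u} A} (f f' : M ⟶ L.X q) (hf : f ≫ L.d q (q + 1) = 0)
    (hf' : f' ≫ L.d q (q + 1) = 0) :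
    phiOf L q (f - f') (by rw [Preadditive.sub_comp, hf, hf', sub_zero]) =
      phiOf L q f hf - phiOf L q f' hf' := by
  unfold phiOf coc
  rw [Cocycle.fromSingleMk_sub f f' (zero_add q) (q + 1) rfl hf hf', CohomologyClass.mk_sub,
    map_sub]

theorem phiOf_eq_iff [L.IsKInjective] {M : ModuleCat.{u} A} (f f' : M ⟶ L.X q)
    (hf : f ≫ L.d q (q + 1) = 0) (hf' : f' ≫ L.d q (q + 1) = 0) :
    phiOf L q f hf = phiOf L q f' hf' ↔ ∃ g : M ⟶ L.X (q - 1), g ≫ L.d (q - 1) q = f - f' := by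
  rw [← sub_eq_zero, ← phiOf_sub, phiOf_eq_zero_iff]

theorem phiOf_precomp {M M' : ModuleCat.{u} A} (g : M' ⟶ M) (f : M ⟶ L.X q)
    (hf : f ≫ L.d q (q + 1) = 0) :
    Q.map ((CochainComplex.singleFunctor (ModuleCat.{u} A) 0).map g) ≫ phiOf L q f hf =
      phiOf L q (g ≫ f) (by rw [Category.assoc, hf, comp_zero]) := by
  unfold phiOf coc
  rw [Cocycle.fromSingleMk_precomp g f (zero_add q) (q + 1) rfl hf, kappa_mk_precomp]

theorem smul_phiOf {M : ModuleCat.{u} A} (a : A) (f : M ⟶ L.X q)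
    (hf : f ≫ L.d q (q + 1) = 0) :
    a • phiOf L q f hf =
      phiOf L q (a • f) (by rw [Linear.smul_comp, hf, smul_zero]) := by
  have h1 : a • phiOf L q f hf =
      Q.map ((CochainComplex.singleFunctor (ModuleCat.{u} A) 0).map (a • 𝟙 M)) ≫
        phiOf L q f hf := by
    rw [Functor.map_smul, Functor.map_smul, CategoryTheory.Functor.map_id,
      CategoryTheory.Functor.map_id, Linear.smul_comp, Category.id_comp]
  rw [h1, phiOf_precomp]
  congr 1
  rw [Linear.smul_comp, Category.id_comp]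

end Groth.Agent.Lib.Helper25.LocColim
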