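import Mathlib
import Groth.Prelude.Def_DRing3

/-!
# A concrete model of `H^q(Γ_I L)`
-/

set_option autoImplicit false
universe u

namespace Groth.Agent.Lib.Helper25.LocColim

open CategoryTheory CategoryTheory.Limits DerivedCategory

attribute [local instance] HasDerivedCategory.standard

variable {A : Type u} [CommRing A] (I : Ideal A) (L : CochainComplex (ModuleCat.{u} A) ℤ) (q : ℤ)

/-- the complex `Γ_I L` -/
noncomputable abbrev gam : CochainComplex (ModuleCat.{u} A) ℤ :=
  ((DRing.gammaI I).mapHomologicalComplex (ComplexShape.up ℤ)).obj L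

/-- the short complex computing `H^q(Γ_I L)` -/
noncomputable abbrev scq : ShortComplex (ModuleCat.{u} A) := (gam I L).sc' (q - 1) q (q + 1)

/-- the concrete model of `H^q(Γ_I L)` -/
abbrev Hc : Type u :=
  LinearMap.ker (scq I L q).g.hom ⧸ LinearMap.range (scq I L q).moduleCatToCycles

/-- the class of a torsion cocycle -/
noncomputable def cls (z : L.X q) (hz : z ∈ DRing.torsionSub I (L.X q))
    (hd : (L.d q (q + 1)).hom z = 0) : Hc I L q :=
  Submodule.Quotient.mk ⟨⟨z, hz⟩, by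
    rw [LinearMap.mem_ker]
    have h1 : (scq I L q).g.hom ⟨z, hz⟩ = (⟨(L.d q (q + 1)).hom z,
      DRing.map_mem_torsionSub I (L.d q (q + 1)).hom hz⟩ : DRing.torsionSub I (L.X (q + 1))) := rfl
    rw [h1]
    apply Subtype.ext
    exact hd⟩

variable {I L q}

theorem cls_surjective (c : Hc I L q) :
    ∃ (z : L.X q) (hz : z ∈ DRing.torsionSub I (L.X q)) (hd : (L.d q (q + 1)).hom z = 0),
      cls I L q z hz hd = c := by
  obtain ⟨⟨⟨z, hz⟩, hw⟩, rfl⟩ := Submodule.Quotient.mk_surjective _ c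
  have h1 : (scq I L q).g.hom ⟨z, hz⟩ = 0 := LinearMap.mem_ker.1 hw
  have hd : (L.d q (q + 1)).hom z = 0 :=
    congrArg (fun w : DRing.torsionSub I (L.X (q + 1)) => w.1) h1
  exact ⟨z, hz, hd, rfl⟩

theorem cls_eq_zero_iff (z : L.X q) (hz : z ∈ DRing.torsionSub I (L.X q))
    (hd : (L.d q (q + 1)).hom z = 0) :
    cls I L q z hz hd = 0 ↔
      ∃ y : L.X (q - 1), y ∈ DRing.torsionSub I (L.X (q - 1)) ∧ (L.d (q - 1) q).hom y = z := by
  unfold cls
  rw [Submodule.Quotient.mk_eq_zero]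
  constructor
  · rintro ⟨⟨y, hy⟩, h⟩
    refine ⟨y, hy, ?_⟩
    exact congrArg (fun w => w.1.1) h
  · rintro ⟨y, hy, h⟩
    refine ⟨⟨y, hy⟩, ?_⟩
    apply Subtype.ext
    apply Subtype.ext
    exact h

theorem cls_add (z z' : L.X q) (hz : z ∈ DRing.torsionSub I (L.X q))
    (hd : (L.d q (q + 1)).hom z = 0) (hz' : z' ∈ DRing.torsionSub I (L.X q))
    (hd' : (L.d q (q + 1)).hom z' = 0) :
    cls I L q (z + z') ((DRing.torsionSub I (L.X q)).add_mem hz hz')
      (by rw [map_add, hd, hd', add_zero]) = cls I L q z hz hd + cls I L q z' hz' hd' := rfl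

theorem cls_smul (a : A) (z : L.X q) (hz : z ∈ DRing.torsionSub I (L.X q))
    (hd : (L.d q (q + 1)).hom z = 0) :
    cls I L q (a • z) ((DRing.torsionSub I (L.X q)).smul_mem a hz)
      (by rw [map_smul, hd, smul_zero]) = a • cls I L q z hz hd := rfl

theorem cls_congr {z z' : L.X q} (h : z = z') (hz : z ∈ DRing.torsionSub I (L.X q))
    (hd : (L.d q (q + 1)).hom z = 0) :
    cls I L q z hz hd = cls I L q z' (h ▸ hz) (h ▸ hd) := by
  subst h; rfl

theorem cls_eq_of_sub (z z' : L.X q) (hz : z ∈ DRing.torsionSub I (L.X q))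
    (hd : (L.d q (q + 1)).hom z = 0) (hz' : z' ∈ DRing.torsionSub I (L.X q))
    (hd' : (L.d q (q + 1)).hom z' = 0) (w : L.X (q - 1))
    (hw : w ∈ DRing.torsionSub I (L.X (q - 1))) (h : (L.d (q - 1) q).hom w = z - z') :
    cls I L q z hz hd = cls I L q z' hz' hd' := by
  have h0 : cls I L q (z - z') ((DRing.torsionSub I (L.X q)).sub_mem hz hz')
      (by rw [map_sub, hd, hd', sub_zero]) = 0 :=
    (cls_eq_zero_iff _ _ _).2 ⟨w, hw, h⟩
  have h1 : cls I L q (z - z') ((DRing.torsionSub I (L.X q)).sub_mem hz hz')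
      (by rw [map_sub, hd, hd', sub_zero]) = cls I L q z hz hd - cls I L q z' hz' hd' := rfl
  rw [h1, sub_eq_zero] at h0
  exact h0

variable (I L q)

/-- `H^q` of `Q(Γ_I L)` is the concrete model -/
noncomputable def hcIso :
    (DerivedCategory.homologyFunctor (ModuleCat.{u} A) q).obj (Q.obj (gam I L)) ≅
      ModuleCat.of A (Hc I L q) :=
  (DerivedCategory.homologyFunctorFactors (ModuleCat.{u} A) q).app (gam I L) ≪≫
    (gam I L).homologyIsoSc' (q - 1) q (q + 1) (by simp) (by simp) ≪≫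
    (scq I L q).moduleCatHomologyIso

end Groth.Agent.Lib.Helper25.LocColim
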