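import Groth.Agent.Lib.Helper25.LocColim.Single
import Groth.Agent.Lib.Helper25.LocColim.Homology
import Groth.Agent.Lib.Helper25.KInjDerived
import Groth.Agent.Lib.Helper25.RHomKInj
import Groth.Prelude.Def_DualLC

/-!
# `H^q(RΓ_I K)` is the colimit of the `Hom(A/I^n, K[q])`
-/

set_option autoImplicit false
universe u

namespace Groth.Agent.Lib.Helper25.LocColim

open CategoryTheory CategoryTheory.Limits DerivedCategory Opposite

attribute [local instance] HasDerivedCategory.standard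

variable {A : Type u} [CommRing A] (I : Ideal A)

/-- modules killed by a power of `I` -/
def Bdd (M : ModuleCat.{u} A) : Prop := ∃ n : ℕ, ∀ a ∈ I ^ n, ∀ m : M, a • m = 0

theorem mem_torsionSub_of_bdd {M : ModuleCat.{u} A} (hM : Bdd I M) {N : ModuleCat.{u} A}
    (f : M ⟶ N) (m : M) : f.hom m ∈ DRing.torsionSub I N := by
  obtain ⟨n, hn⟩ := hM
  exact ⟨n, fun a ha => by rw [← map_smul, hn a ha m, map_zero]⟩

variable (L : CochainComplex (ModuleCat.{u} A) ℤ) [L.IsKInjective] (q : ℤ)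

/-- evaluation of a morphism `M[0] ⟶ L⟦q⟧` of `D(A)` at an element of `M`, as a class in
`H^q(Γ_I L)` -/
noncomputable def ev {M : ModuleCat.{u} A} (hM : Bdd I M) (m : M)
    (φ : Q.obj (sgl M) ⟶ (Q.obj L)⟦q⟧) : Hc I L q :=
  cls I L q ((exists_rep L q φ).choose.hom m) (mem_torsionSub_of_bdd I hM _ m)
    (congrArg (fun g => g.hom m) (exists_rep L q φ).choose_spec.choose)

theorem ev_phiOf {M : ModuleCat.{u} A} (hM : Bdd I M) (m : M) (f : M ⟶ L.X q)
    (hf : f ≫ L.d q (q + 1) = 0) :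
    ev I L q hM m (phiOf L q f hf) = cls I L q (f.hom m) (mem_torsionSub_of_bdd I hM _ m)
      (congrArg (fun g => g.hom m) hf) := by
  have h := (exists_rep L q (phiOf L q f hf)).choose_spec.choose_spec
  rw [phiOf_eq_iff] at h
  obtain ⟨g, hg⟩ := h
  unfold ev
  exact cls_eq_of_sub _ _ _ _ _ _ (g.hom m) (mem_torsionSub_of_bdd I hM _ m)
    (congrArg (fun g => g.hom m) hg)

/-- evaluation as a linear map -/
noncomputable def evLin {M : ModuleCat.{u} A} (hM : Bdd I M) (m : M) :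
    (Q.obj (sgl M) ⟶ (Q.obj L)⟦q⟧) →ₗ[A] Hc I L q where
  toFun := ev I L q hM m
  map_add' φ φ' := by
    obtain ⟨f, hf, rfl⟩ := exists_rep L q φ
    obtain ⟨f', hf', rfl⟩ := exists_rep L q φ'
    rw [← phiOf_add, ev_phiOf, ev_phiOf, ev_phiOf]
    exact cls_add _ _ _ _ _ _
  map_smul' a φ := by
    obtain ⟨f, hf, rfl⟩ := exists_rep L q φ
    rw [smul_phiOf, ev_phiOf, ev_phiOf]
    exact cls_smul a _ _ _

theorem evLin_phiOf {M : ModuleCat.{u} A} (hM : Bdd I M) (m : M) (f : M ⟶ L.X q)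
    (hf : f ≫ L.d q (q + 1) = 0) :
    evLin I L q hM m (phiOf L q f hf) = cls I L q (f.hom m) (mem_torsionSub_of_bdd I hM _ m)
      (congrArg (fun g => g.hom m) hf) :=
  ev_phiOf I L q hM m f hf

theorem evLin_precomp {M M' : ModuleCat.{u} A} (g : M' ⟶ M) (hM : Bdd I M) (hM' : Bdd I M')
    (m' : M') (φ : Q.obj (sgl M) ⟶ (Q.obj L)⟦q⟧) :
    evLin I L q hM' m' (Q.map ((CochainComplex.singleFunctor (ModuleCat.{u} A) 0).map g) ≫ φ) =
      evLin I L q hM (g.hom m') φ := by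
  obtain ⟨f, hf, rfl⟩ := exists_rep L q φ
  rw [phiOf_precomp, evLin_phiOf, evLin_phiOf]
  rfl


section Cocone

/-- the module `A/I^n` -/
abbrev Mn (n : ℕ) : ModuleCat.{u} A := ModuleCat.of A (A ⧸ I ^ n)

theorem bdd_Mn (n : ℕ) : Bdd I (Mn I n) := by
  refine ⟨n, fun a ha m => ?_⟩
  obtain ⟨b, rfl⟩ := Submodule.Quotient.mk_surjective _ m
  change Submodule.Quotient.mk (a • b) = 0
  rw [Submodule.Quotient.mk_eq_zero]
  exact Ideal.mul_mem_right b _ ha

/-- the diagram `n ↦ (A/I^n)[0]` -/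
noncomputable abbrev Fdiag : ℕᵒᵖᵒᵖ ⥤ (Dual.D A)ᵒᵖ :=
  (localCohomology.ringModIdeals (localCohomology.idealPowersDiagram I) ⋙
    DerivedCategory.singleFunctor (ModuleCat.{u} A) 0).op

/-- the diagram `n ↦ Hom((A/I^n)[0], T)` -/
noncomputable abbrev Gdiag (T : Dual.D A) : ℕᵒᵖᵒᵖ ⥤ ModuleCat.{u + 1} A :=
  Fdiag I ⋙ (linearYoneda A (Dual.D A)).obj T

/-- the leg of the cocone -/
noncomputable def leg (n : ℕ) :
    (Q.obj (sgl (Mn I n)) ⟶ (Q.obj L)⟦q⟧) →ₗ[A] ULift.{u + 1} (Hc I L q) :=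
  ULift.moduleEquiv.symm.toLinearMap ∘ₗ evLin I L q (bdd_Mn I n) (1 : A ⧸ I ^ n)

theorem leg_apply (n : ℕ) (φ : Q.obj (sgl (Mn I n)) ⟶ (Q.obj L)⟦q⟧) :
    (leg I L q n φ).down = evLin I L q (bdd_Mn I n) (1 : A ⧸ I ^ n) φ := rfl

/-- the cocone with point `H^q(Γ_I L)` -/
noncomputable def cocone : Cocone (Gdiag I ((Q.obj L)⟦q⟧)) where
  pt := ModuleCat.of A (ULift.{u + 1} (Hc I L q))
  ι :=
    { app := fun j => ModuleCat.ofHom (leg I L q j.unop.unop)
      naturality := by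
        intro j k w
        ext φ
        apply ULift.ext
        let g : Mn I k.unop.unop ⟶ Mn I j.unop.unop :=
          (localCohomology.ringModIdeals (localCohomology.idealPowersDiagram I)).map w.unop
        let φ' : Q.obj (sgl (Mn I j.unop.unop)) ⟶ (Q.obj L)⟦q⟧ := φ
        change evLin I L q (bdd_Mn I k.unop.unop) (1 : A ⧸ I ^ k.unop.unop)
          (Q.map ((CochainComplex.singleFunctor (ModuleCat.{u} A) 0).map g) ≫ φ') =
            evLin I L q (bdd_Mn I j.unop.unop) (1 : A ⧸ I ^ j.unop.unop) φ'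
        exact (evLin_precomp I L q g (bdd_Mn I j.unop.unop) (bdd_Mn I k.unop.unop) _ φ').trans rfl }

end Cocone

section Bij

noncomputable instance presFiltAb :
    PreservesFilteredColimitsOfSize.{0, 0} (forget AddCommGrpCat.{u + 1}) :=
  preservesFilteredColimitsOfSize_shrink.{0, u + 1, 0, u + 1} _

noncomputable instance presFiltMod :
    PreservesFilteredColimitsOfSize.{0, 0} (forget (ModuleCat.{u + 1} A)) := by
  have : forget (ModuleCat.{u + 1} A) =
      forget₂ (ModuleCat.{u + 1} A) AddCommGrpCat.{u + 1} ⋙ forget AddCommGrpCat.{u + 1} := rfl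
  rw [this]
  constructor
  intro J _ _
  infer_instance

/-- the map `A/I^n ⟶ N` with `1 ↦ z` -/
noncomputable def toX (n : ℕ) {N : ModuleCat.{u} A} (z : N) (hz : ∀ a ∈ I ^ n, a • z = 0) :
    Mn I n ⟶ N :=
  ModuleCat.ofHom (Submodule.liftQ (I ^ n) (LinearMap.toSpanSingleton A N z) (by
    intro a ha
    rw [LinearMap.mem_ker, LinearMap.toSpanSingleton_apply]
    exact hz a ha))

theorem toX_one (n : ℕ) {N : ModuleCat.{u} A} (z : N) (hz : ∀ a ∈ I ^ n, a • z = 0) :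
    (toX I n z hz).hom (1 : A ⧸ I ^ n) = z := by
  change Submodule.liftQ _ _ _ (Submodule.Quotient.mk 1) = z
  rw [Submodule.liftQ_apply, LinearMap.toSpanSingleton_apply, one_smul]

theorem Mn_hom_ext {n : ℕ} {N : ModuleCat.{u} A} (f g : Mn I n ⟶ N)
    (h : f.hom (1 : A ⧸ I ^ n) = g.hom (1 : A ⧸ I ^ n)) : f = g := by
  apply ModuleCat.hom_ext
  apply Submodule.linearMap_qext
  apply LinearMap.ext_ring
  exact h

theorem desc_surjective :
    Function.Surjective (colimit.desc (Gdiag I ((Q.obj L)⟦q⟧)) (cocone I L q)).hom := by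
  rintro ⟨c⟩
  obtain ⟨z, hz, hd, rfl⟩ := cls_surjective c
  obtain ⟨n, hn⟩ := hz
  have hf : toX I n z hn ≫ L.d q (q + 1) = 0 := by
    apply Mn_hom_ext
    change (L.d q (q + 1)).hom ((toX I n z hn).hom 1) = 0
    rw [toX_one, hd]
  refine ⟨(colimit.ι (Gdiag I ((Q.obj L)⟦q⟧)) (op (op n))).hom (phiOf L q (toX I n z hn) hf), ?_⟩
  have h1 := congrArg (fun t => t.hom (phiOf L q (toX I n z hn) hf))
    (colimit.ι_desc (cocone I L q) (op (op n)))
  refine h1.trans ?_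
  apply ULift.ext
  change evLin I L q (bdd_Mn I n) (1 : A ⧸ I ^ n) (phiOf L q (toX I n z hn) hf) = _
  rw [evLin_phiOf]
  exact cls_congr (toX_one I n z hn) _ _

theorem desc_injective :
    Function.Injective (colimit.desc (Gdiag I ((Q.obj L)⟦q⟧)) (cocone I L q)).hom := by
  rw [injective_iff_map_eq_zero]
  intro x hx
  obtain ⟨j, φ, rfl⟩ := Concrete.colimit_exists_rep (Gdiag I ((Q.obj L)⟦q⟧)) x
  have h1 := congrArg (fun t => t.hom φ) (colimit.ι_desc (cocone I L q) j)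
  have h2 : ((cocone I L q).ι.app j).hom φ = 0 := h1.symm.trans hx
  let n : ℕ := j.unop.unop
  let φ' : Q.obj (sgl (Mn I n)) ⟶ (Q.obj L)⟦q⟧ := φ
  obtain ⟨f, hf, hφ⟩ := exists_rep L q φ'
  have h3 : evLin I L q (bdd_Mn I n) (1 : A ⧸ I ^ n) φ' = 0 := congrArg ULift.down h2
  rw [← hφ, evLin_phiOf, cls_eq_zero_iff] at h3
  obtain ⟨y, ⟨m, hm⟩, hy⟩ := h3
  let N : ℕ := max n m
  have hyN : ∀ a ∈ I ^ N, a • y = 0 := fun a ha =>
    hm a (Ideal.pow_le_pow_right (le_max_right n m) ha)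
  let w : j ⟶ op (op N) := (homOfLE (le_max_left n m)).op.op
  let g : Mn I N ⟶ Mn I n :=
    (localCohomology.ringModIdeals (localCohomology.idealPowersDiagram I)).map w.unop
  have h4 : ((Gdiag I ((Q.obj L)⟦q⟧)).map w).hom φ = 0 := by
    change Q.map ((CochainComplex.singleFunctor (ModuleCat.{u} A) 0).map g) ≫ φ' = 0
    rw [← hφ, phiOf_precomp, phiOf_eq_zero_iff]
    refine ⟨toX I N y hyN, ?_⟩
    apply Mn_hom_ext
    change (L.d (q - 1) q).hom ((toX I N y hyN).hom 1) = f.hom (g.hom 1)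
    rw [toX_one, hy]
    rfl
  have h5 := congrArg (fun t => t.hom φ) (colimit.w (Gdiag I ((Q.obj L)⟦q⟧)) w)
  refine h5.symm.trans ?_
  change (colimit.ι (Gdiag I ((Q.obj L)⟦q⟧)) (op (op N))).hom
    (((Gdiag I ((Q.obj L)⟦q⟧)).map w).hom φ) = 0
  rw [h4, map_zero]

end Bij

section Final

variable [DRing.HasRgammaI I]

/-- `RΓ_I (Q J) ≅ Q (Γ_I J)` for a K-injective complex `J` -/
noncomputable def rgammaIso (J : CochainComplex (ModuleCat.{u} A) ℤ) [J.IsKInjective] :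
    (DRing.RgammaI I).obj (Q.obj J) ≅ Q.obj (gam I J) :=
  haveI : IsIso (((DRing.gammaIKh I).totalRightDerivedUnit DerivedCategory.Qh
      (HomotopyCategory.quasiIso (ModuleCat.{u} A) (ComplexShape.up ℤ))).app
        ((HomotopyCategory.quotient _ _).obj J)) :=
    Groth.Agent.Lib.Helper25.KInjDerived.isIso_unit_homotopyCategory (DRing.gammaIKh I)
      DerivedCategory.Qh (DRing.RgammaI I) _ J
  (asIso (((DRing.gammaIKh I).totalRightDerivedUnit DerivedCategory.Qh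
      (HomotopyCategory.quasiIso (ModuleCat.{u} A) (ComplexShape.up ℤ))).app
        ((HomotopyCategory.quotient _ _).obj J))).symm

theorem main (K : Dual.D A) (q : ℤ) :
    Nonempty (Dual.HD A ((DRing.RgammaI I).obj K) q ≃ₗ[A] Dual2.HDI A I K q) := by
  obtain ⟨J, hJ, ⟨e⟩⟩ := Groth.Agent.Lib.Helper25.RHomKInj.exists_kInj K
  haveI := hJ
  let e1 : (DRing.RgammaI I).obj K ≅ Q.obj (gam I J) :=
    (DRing.RgammaI I).mapIso e.symm ≪≫ rgammaIso I J
  let eL : Dual.HD A ((DRing.RgammaI I).obj K) q ≃ₗ[A] Hc I J q :=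
    ((DerivedCategory.homologyFunctor (ModuleCat.{u} A) q).mapIso e1 ≪≫
      hcIso I J q).toLinearEquiv
  let eM : ↑(colimit (Gdiag I ((Q.obj J)⟦q⟧))) ≃ₗ[A] Hc I J q :=
    (LinearEquiv.ofBijective (colimit.desc (Gdiag I ((Q.obj J)⟦q⟧)) (cocone I J q)).hom
      ⟨desc_injective I J q, desc_surjective I J q⟩).trans ULift.moduleEquiv
  let eR : colimit (Gdiag I ((Q.obj J)⟦q⟧)) ≅ Dual2.HDI A I K q :=
    HasColimit.isoOfNatIso (Functor.isoWhiskerLeft (Fdiag I)
      ((linearYoneda A (Dual.D A)).mapIso ((shiftFunctor (Dual.D A) q).mapIso e)))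
  exact ⟨eL.trans (eM.symm.trans eR.toLinearEquiv)⟩

end Final

end Groth.Agent.Lib.Helper25.LocColim
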